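import Mathlib
import Groth.Agent.Lib.Helper8.Hens.PITensor2
import Groth.Agent.Lib.Helper8.Hens.HenselianFinite
import Groth.Agent.Lib.Helper8.Hens.LocalTensor

open IsLocalRing TensorProduct Polynomial

namespace Groth.Agent.H8.HopfConn

universe u v

/-- Transport of the henselian property along a ring isomorphism. -/
theorem henselianLocalRing_of_ringEquiv {R S : Type*} [CommRing R] [CommRing S]
    [hR : HenselianLocalRing R] (e : R ≃+* S) : HenselianLocalRing S := by
  haveI : IsLocalRing S := e.isLocalRing
  let φ : S →+* R := e.symm.toRingHom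
  let ψ : R →+* S := e.toRingHom
  have hψφ : ∀ x, ψ (φ x) = x := fun x => e.apply_symm_apply x
  have hφψ : ∀ x, φ (ψ x) = x := fun x => e.symm_apply_apply x
  have hloc : ∀ x : S, x ∈ maximalIdeal S → φ x ∈ maximalIdeal R := by
    intro x hx
    rw [mem_maximalIdeal, mem_nonunits_iff] at hx ⊢
    intro hu
    apply hx
    have := hu.map ψ
    rwa [hψφ] at this
  have hloc' : ∀ x : R, x ∈ maximalIdeal R → ψ x ∈ maximalIdeal S := by
    intro x hx
    rw [mem_maximalIdeal, mem_nonunits_iff] at hx ⊢
    intro hu
    apply hx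
    have := hu.map φ
    rwa [hφψ] at this
  refine ⟨fun f hf a₀ h₁ h₂ => ?_⟩
  have hf' : (f.map φ).Monic := hf.map _
  have h₁' : (f.map φ).eval (φ a₀) ∈ maximalIdeal R := by
    rw [Polynomial.eval_map, Polynomial.eval₂_at_apply]
    exact hloc _ h₁
  have h₂' : IsUnit ((f.map φ).derivative.eval (φ a₀)) := by
    rw [Polynomial.derivative_map, Polynomial.eval_map, Polynomial.eval₂_at_apply]
    exact h₂.map φ
  obtain ⟨a, ha1, ha2⟩ := hR.is_henselian _ hf' (φ a₀) h₁' h₂'
  have hcomp : ψ.comp φ = RingHom.id S := RingHom.ext hψφ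
  refine ⟨ψ a, ?_, ?_⟩
  · rw [Polynomial.IsRoot.def] at ha1 ⊢
    have h3 : ψ ((f.map φ).eval a) = f.eval (ψ a) := by
      rw [Polynomial.eval_map, Polynomial.hom_eval₂, hcomp, Polynomial.eval₂_id]
    rw [← h3, ha1, map_zero]
  · have := hloc' _ ha2
    rwa [map_sub, hψφ] at this

/-- Universe-polymorphic version of `henselianLocalRing_of_finite`. -/
theorem henselianLocalRing_of_finite' (R : Type u) [CommRing R] [HenselianLocalRing R]
    (S : Type v) [CommRing S] [IsLocalRing S] [Algebra R S] [Module.Finite R S] :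
    HenselianLocalRing S := by
  let eR : ULift.{v} R ≃+* R := ULift.ringEquiv
  let eS : ULift.{u} S ≃+* S := ULift.ringEquiv
  haveI : HenselianLocalRing (ULift.{v} R) := henselianLocalRing_of_ringEquiv eR.symm
  haveI : IsLocalRing (ULift.{u} S) := eS.symm.isLocalRing
  letI : Algebra (ULift.{v} R) (ULift.{u} S) :=
    (eS.symm.toRingHom.comp ((algebraMap R S).comp eR.toRingHom)).toAlgebra
  have hfin : @Module.Finite (ULift.{v} R) (ULift.{u} S) _ _ Algebra.toModule := by
    refine Module.Finite.of_equiv_equiv eR.symm eS.symm ?_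
    refine RingHom.ext fun r => ?_
    rfl
  haveI : HenselianLocalRing (ULift.{u} S) :=
    @Groth.Agent.H8.Hens.henselianLocalRing_of_finite (ULift.{v} R) _ _ (ULift.{u} S) _ _ _ hfin
  exact henselianLocalRing_of_ringEquiv eS

/-- Idempotents in a local ring are trivial. -/
theorem eq_zero_or_eq_one_of_isIdempotentElem {B : Type*} [CommRing B] [IsLocalRing B] {f : B}
    (hf : IsIdempotentElem f) : f = 0 ∨ f = 1 := by
  have h0 : f * (1 - f) = 0 := by rw [mul_sub, mul_one, hf.eq, sub_self]
  rcases IsLocalRing.isUnit_or_isUnit_one_sub_self f with h | h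
  · right
    have := h.mul_right_eq_zero.mp h0
    exact (sub_eq_zero.mp this).symm
  · left
    exact h.mul_left_eq_zero.mp h0

theorem counit_counit_comul {R A : Type*} [CommRing R] [CommRing A] [Bialgebra R A] (a : A) :
    Algebra.TensorProduct.lmul' R (S := R)
      (Algebra.TensorProduct.map (Bialgebra.counitAlgHom R A) (Bialgebra.counitAlgHom R A)
        (Coalgebra.comul a)) = Coalgebra.counit a := by
  have h1 : Algebra.TensorProduct.map (Bialgebra.counitAlgHom R A) (Bialgebra.counitAlgHom R A)
      (Coalgebra.comul a) =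
      (Coalgebra.counit (R := R) (A := A)).lTensor R ((Coalgebra.counit (R := R)).rTensor A
        (Coalgebra.comul a)) := by
    generalize Coalgebra.comul (R := R) a = t
    induction t using TensorProduct.induction_on with
    | zero => simp
    | tmul x y => simp
    | add x y hx hy => rw [map_add, map_add, map_add, hx, hy]
  rw [h1, Coalgebra.rTensor_counit_comul]
  simp

section Hopf

variable (R : Type u) [CommRing R] [HenselianLocalRing R]
    (A : Type v) [CommRing A] [HopfAlgebra R A] [Module.Finite R A]
    (e : A) (he : IsIdempotentElem e) (hε : Bialgebra.counitAlgHom R A e = 1)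
    [hloc : IsLocalRing (A ⧸ Ideal.span ({1 - e} : Set A))]

include hε in
theorem counit_eq_zero_of_mem {x : A} (hx : x ∈ Ideal.span ({1 - e} : Set A)) :
    Bialgebra.counitAlgHom R A x = 0 := by
  obtain ⟨a, rfl⟩ := Ideal.mem_span_singleton'.mp hx
  rw [map_mul, map_sub, map_one, hε, sub_self, mul_zero]

/-- The counit on the connected component. -/
noncomputable def counitBar : (A ⧸ Ideal.span ({1 - e} : Set A)) →ₐ[R] R :=
  Ideal.Quotient.liftₐ _ (Bialgebra.counitAlgHom R A) (fun _ hx => counit_eq_zero_of_mem R A e hε hx)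

theorem counitBar_mk (a : A) :
    counitBar R A e hε (Ideal.Quotient.mk _ a) = Bialgebra.counitAlgHom R A a := rfl

include hε in
theorem residue_surjective' :
    Function.Surjective (⇑(IsLocalRing.residue (A ⧸ Ideal.span ({1 - e} : Set A))) ∘
      ⇑(algebraMap R (A ⧸ Ideal.span ({1 - e} : Set A)))) := by
  intro x
  obtain ⟨a, rfl⟩ := residue_surjective x
  refine ⟨counitBar R A e hε a, ?_⟩
  simp only [Function.comp_apply]
  rw [← sub_eq_zero, ← map_sub, residue_eq_zero_iff, mem_maximalIdeal, mem_nonunits_iff]
  intro hu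
  have h1 := hu.map (counitBar R A e hε)
  rw [map_sub, AlgHom.commutes, Algebra.algebraMap_self, RingHom.id_apply, sub_self] at h1
  exact not_isUnit_zero h1

include hε in
theorem isLocalRing_tensor_self :
    IsLocalRing ((A ⧸ Ideal.span ({1 - e} : Set A)) ⊗[R] (A ⧸ Ideal.span ({1 - e} : Set A))) := by
  set A₀ := A ⧸ Ideal.span ({1 - e} : Set A)
  haveI : IsLocalHom (algebraMap R A₀) := Groth.Agent.H8.Hens.LT.isLocalHom_of_finite R A₀
  haveI : IsPurelyInseparable (ResidueField R) (ResidueField A₀) := by
    rw [isPurelyInseparable_iff]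
    intro x
    have hx : x ∈ (algebraMap (ResidueField R) (ResidueField A₀)).range := by
      obtain ⟨r, hr⟩ := residue_surjective' R A e hε x
      refine ⟨residue R r, ?_⟩
      rw [← hr]
      exact ResidueField.map_residue _ _
    refine ⟨?_, fun _ => hx⟩
    obtain ⟨y, rfl⟩ := hx
    exact isIntegral_algebraMap
  haveI := Groth.Agent.H8.Hens.PI.nontrivial_tensor R A₀ A₀
  exact Groth.Agent.H8.Hens.PI.isLocalRing_tensor R A₀ A₀

include he hε in
/-- The ideal of the unit component is a Hopf ideal. -/
theorem isHopfIdeal : (Ideal.span ({1 - e} : Set A)).IsHopfIdeal R := by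
  set I := Ideal.span ({1 - e} : Set A) with hI
  set A₀ := A ⧸ I
  let π : A →ₐ[R] A₀ := Ideal.Quotient.mkₐ R I
  have hπ : ∀ x, π x = 0 ↔ x ∈ I := fun x => Ideal.Quotient.eq_zero_iff_mem
  have hR1 : (1 : R) ≠ 0 := one_ne_zero
  -- comultiplication
  let Δ' : A →ₐ[R] A₀ ⊗[R] A₀ :=
    (Algebra.TensorProduct.map π π).comp (Bialgebra.comulAlgHom R A)
  have hΔe : Δ' e = 1 := by
    haveI := isLocalRing_tensor_self R A e hε
    have hid : IsIdempotentElem (Δ' e) := he.map Δ'
    rcases eq_zero_or_eq_one_of_isIdempotentElem hid with h | h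
    · exfalso
      let μ : A₀ ⊗[R] A₀ →ₐ[R] R := (Algebra.TensorProduct.lmul' R (S := R)).comp
        (Algebra.TensorProduct.map (counitBar R A e hε) (counitBar R A e hε))
      have h1 : μ (Δ' e) = Bialgebra.counitAlgHom R A e := by
        have h0 := counit_counit_comul (R := R) e
        simp only [μ, Δ', AlgHom.comp_apply]
        have h2 : ∀ t : A ⊗[R] A, Algebra.TensorProduct.map (counitBar R A e hε)
            (counitBar R A e hε) (Algebra.TensorProduct.map π π t) =
            Algebra.TensorProduct.map (Bialgebra.counitAlgHom R A) (Bialgebra.counitAlgHom R A) t := by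
          intro t
          induction t using TensorProduct.induction_on with
          | zero => simp
          | tmul x y => rfl
          | add x y hx hy => rw [map_add, map_add, map_add, hx, hy]
        rw [h2]
        exact h0
      rw [h, map_zero, hε] at h1
      exact hR1 h1.symm
    · exact h
  have hΔ : ∀ x ∈ I, Δ' x = 0 := by
    intro x hx
    obtain ⟨a, rfl⟩ := Ideal.mem_span_singleton'.mp hx
    rw [map_mul, map_sub, map_one, hΔe, sub_self, mul_zero]
  -- antipode
  let S' : A →ₐ[R] A₀ := π.comp (HopfAlgebra.antipodeAlgHom R A)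
  have hSe : S' e = 1 := by
    have hid : IsIdempotentElem (S' e) := he.map S'
    rcases eq_zero_or_eq_one_of_isIdempotentElem hid with h | h
    · exfalso
      have h1 : counitBar R A e hε (S' e) = Bialgebra.counitAlgHom R A e := by
        show Coalgebra.counit (HopfAlgebra.antipode R e) = Coalgebra.counit e
        exact HopfAlgebra.counit_antipode e
      rw [h, map_zero, hε] at h1
      exact hR1 h1.symm
    · exact h
  refine { counit_eq_zero := ?_, map_mkQ_comul_eq_zero := ?_, antipode_mem := ?_ }
  · intro x hx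
    exact counit_eq_zero_of_mem R A e hε hx
  · intro x hx
    exact hΔ x hx
  · intro x hx
    obtain ⟨a, rfl⟩ := Ideal.mem_span_singleton'.mp hx
    rw [← hπ]
    show S' (a * (1 - e)) = 0
    rw [map_mul, map_sub, map_one, hSe, sub_self, mul_zero]

include he in
theorem flat_quotient [Module.Flat R A] : Module.Flat R (A ⧸ Ideal.span ({1 - e} : Set A)) := by
  haveI : IsLocalization.Away e (A ⧸ Ideal.span ({1 - e} : Set A)) :=
    IsLocalization.Away.quotient_of_isIdempotentElem he
  haveI : Module.Flat A (A ⧸ Ideal.span ({1 - e} : Set A)) :=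
    IsLocalization.flat _ (Submonoid.powers e)
  exact Module.Flat.trans R A _

end Hopf

end Groth.Agent.H8.HopfConn
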