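import Mathlib
import Groth.Agent.Lib.Helper8.Hopf.HopfConn

universe u
open TensorProduct IsLocalRing

namespace Groth.Agent.H8.HopfEt

/-- The kernel of an augmentation of an étale algebra is generated by an idempotent. -/
theorem exists_idempotent_ker_aug (R C : Type*) [CommRing R] [CommRing C] [Algebra R C]
    [Algebra.Etale R C] (ε : C →ₐ[R] R) :
    ∃ e' : C, IsIdempotentElem e' ∧ RingHom.ker ε.toRingHom = Ideal.span {e'} := by
  letI : Algebra C R := ε.toRingHom.toAlgebra
  haveI : IsScalarTower R C R := .of_algebraMap_eq' ε.comp_algebraMap.symm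
  have hsurj : Function.Surjective (algebraMap C R) := fun r => ⟨algebraMap R C r, ε.commutes r⟩
  haveI : Algebra.FormallyEtale C R := .of_restrictScalars (R := R)
  have h1 : IsIdempotentElem (RingHom.ker (algebraMap C R)) :=
    (Algebra.FormallyEtale.iff_of_surjective hsurj).mp inferInstance
  have hfg : (RingHom.ker ε.toRingHom).FG :=
    Algebra.FinitePresentation.ker_fG_of_surjective ε hsurj
  obtain ⟨e', he', h⟩ := (Ideal.isIdempotentElem_iff_of_fg _ hfg).mp h1
  exact ⟨e', he', h⟩

/-- A map from an augmented étale algebra to a connected augmented algebra, compatible with the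
augmentations, is trivial. -/
theorem eq_ofId_comp_aug (R C T : Type*) [CommRing R] [Nontrivial R] [CommRing C] [Algebra R C]
    [Algebra.Etale R C] (ε : C →ₐ[R] R) [CommRing T] [Algebra R T]
    (hT : ∀ x : T, IsIdempotentElem x → x = 0 ∨ x = 1) (εT : T →ₐ[R] R)
    (χ : C →ₐ[R] T) (hχ : εT.comp χ = ε) : χ = (Algebra.ofId R T).comp ε := by
  obtain ⟨e', he', hker⟩ := exists_idempotent_ker_aug R C ε
  have h0 : χ e' = 0 := by
    rcases hT _ (he'.map χ) with h | h
    · exact h
    · exfalso
      have h1 : ε e' = 0 := by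
        have : e' ∈ RingHom.ker ε.toRingHom := by rw [hker]; exact Ideal.subset_span rfl
        exact this
      have h2 : εT (χ e') = ε e' := congrArg (fun F : C →ₐ[R] R => F e') hχ
      rw [h, map_one, h1] at h2
      exact one_ne_zero h2
  refine AlgHom.ext fun c => ?_
  have h1 : c - algebraMap R C (ε c) ∈ RingHom.ker ε.toRingHom := by
    rw [RingHom.mem_ker, map_sub]
    show ε c - ε (algebraMap R C (ε c)) = 0
    rw [AlgHom.commutes, Algebra.algebraMap_self, RingHom.id_apply, sub_self]
  rw [hker] at h1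
  obtain ⟨d, hd⟩ := Ideal.mem_span_singleton'.mp h1
  have h2 : χ (c - algebraMap R C (ε c)) = 0 := by rw [← hd, map_mul, h0, mul_zero]
  rw [map_sub, sub_eq_zero, AlgHom.commutes] at h2
  rw [h2]
  rfl

section Main

variable (R : Type u) [CommRing R] [Nontrivial R] (A : Type u) [CommRing A] [HopfAlgebra R A]
  (e : A) (hε : Bialgebra.counitAlgHom R A e = 1) [IsLocalRing (A ⧸ Ideal.span ({1 - e} : Set A))]

local notation "A⁰" => A ⧸ Ideal.span ({1 - e} : Set A)

include hε in
/-- A homomorphism from `G` to a finite étale group factors through `G/G⁰`: functions pulled back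
from an étale group are invariant under right translation by the unit component. -/
theorem mem_equalizer_of_etale (C : Type u) [CommRing C] [HopfAlgebra R C] [Algebra.Etale R C]
    (φ : C →ₐc[R] A) (c : C) :
    φ c ∈ (AlgHom.equalizer
      ((Algebra.TensorProduct.map (AlgHom.id R A) (Ideal.Quotient.mkₐ R (Ideal.span ({1 - e} : Set A)))).comp
        (Bialgebra.comulAlgHom R A))
      (Algebra.TensorProduct.includeLeft : A →ₐ[R] A ⊗[R] A⁰)) := by
  rw [AlgHom.mem_equalizer]
  let π : A →ₐ[R] A⁰ := Ideal.Quotient.mkₐ R _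
  let εbar : A⁰ →ₐ[R] R := Ideal.Quotient.liftₐ _ (Bialgebra.counitAlgHom R A) (by
    intro a ha
    obtain ⟨d, rfl⟩ := Ideal.mem_span_singleton'.mp ha
    rw [map_mul, map_sub, map_one, hε, sub_self, mul_zero])
  have hχ : εbar.comp (π.comp (φ : C →ₐ[R] A)) = Bialgebra.counitAlgHom R C := by
    refine AlgHom.ext fun x => ?_
    show Bialgebra.counitAlgHom R A (φ x) = Bialgebra.counitAlgHom R C x
    simp
  have hπφ := eq_ofId_comp_aug R C A⁰ (Bialgebra.counitAlgHom R C)
    (fun x hx => HopfConn.eq_zero_or_eq_one_of_isIdempotentElem hx) εbar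
    (π.comp (φ : C →ₐ[R] A)) hχ
  have h1 : Bialgebra.comulAlgHom R A (φ c) =
      Algebra.TensorProduct.map (φ : C →ₐ[R] A) (φ : C →ₐ[R] A) (Bialgebra.comulAlgHom R C c) := by
    show Coalgebra.comul (φ c) = TensorProduct.map (φ : C →ₗ[R] A) (φ : C →ₗ[R] A)
      (Coalgebra.comul c)
    exact (CoalgHomClass.map_comp_comul_apply φ c).symm
  have key : ∀ z : C ⊗[R] C,
      Algebra.TensorProduct.map (AlgHom.id R A) π
        (Algebra.TensorProduct.map (φ : C →ₐ[R] A) (φ : C →ₐ[R] A) z) =
      Algebra.TensorProduct.map (φ : C →ₐ[R] A) (Algebra.ofId R A⁰)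
        (LinearMap.lTensor C (Coalgebra.counit (R := R) (A := C)) z) := by
    intro z
    induction z using TensorProduct.induction_on with
    | zero => simp
    | tmul x y =>
      have h2 : π (φ y) = algebraMap R A⁰ (Coalgebra.counit y) :=
        congrArg (fun F : C →ₐ[R] A⁰ => F y) hπφ
      simp only [Algebra.TensorProduct.map_tmul, AlgHom.coe_id, id_eq, LinearMap.lTensor_tmul]
      exact congrArg (fun w => (φ : C →ₐ[R] A) x ⊗ₜ[R] w) h2
    | add x y hx hy => rw [map_add, map_add, hx, hy, map_add, map_add]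
  show Algebra.TensorProduct.map (AlgHom.id R A) π (Bialgebra.comulAlgHom R A (φ c)) =
    φ c ⊗ₜ[R] (1 : A⁰)
  rw [h1, key, Bialgebra.comulAlgHom_apply, Coalgebra.lTensor_counit_comul,
    Algebra.TensorProduct.map_tmul, map_one]
  rfl

include hε in
/-- A homomorphism from a connected group to `G` lands in the unit component. -/
theorem map_idempotent_eq_one (he : IsIdempotentElem e) (D : Type u) [CommRing D] [HopfAlgebra R D]
    [IsLocalRing D] (ψ : A →ₐc[R] D) : ψ e = 1 := by
  rcases HopfConn.eq_zero_or_eq_one_of_isIdempotentElem (he.map ψ) with h | h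
  · exfalso
    have h1 : Bialgebra.counitAlgHom R D (ψ e) = Bialgebra.counitAlgHom R A e := by simp
    rw [h, map_zero, hε] at h1
    exact zero_ne_one h1
  · exact h

end Main

end Groth.Agent.H8.HopfEt
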