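import Mathlib
import Groth.Agent.Lib.Helper9.FF.Galois

/-!
# Exact sequences of finite flat group schemes: torsor argument (helper8)
-/

universe u
open TensorProduct

namespace Groth.Agent.H8.HopfExact

variable (R : Type u) [CommRing R] (A A'' : Type u) [CommRing A] [HopfAlgebra R A]
  [CommRing A''] [HopfAlgebra R A''] [Algebra A'' A] [IsScalarTower R A'' A]
  (hΔ : (Bialgebra.comulAlgHom R A).comp (IsScalarTower.toAlgHom R A'' A) =
    (Algebra.TensorProduct.map (IsScalarTower.toAlgHom R A'' A) (IsScalarTower.toAlgHom R A'' A)).comp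
      (Bialgebra.comulAlgHom R A''))
  (hε : (Bialgebra.counitAlgHom R A).comp (IsScalarTower.toAlgHom R A'' A) =
    Bialgebra.counitAlgHom R A'')

/-- the structure map as a bialgebra hom -/
noncomputable def bialgHom : A'' →ₐc[R] A :=
  BialgHom.ofAlgHom (IsScalarTower.toAlgHom R A'' A) hε hΔ.symm

theorem bialgHom_apply (b : A'') : bialgHom R A A'' hΔ hε b = algebraMap A'' A b := rfl

/-- the kernel ideal -/
abbrev J : Ideal A := (RingHom.ker (Bialgebra.counitAlgHom R A'')).map (algebraMap A'' A)

include hΔ hε in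
/-- If the kernel `A/J` is étale over `R` and `A` is faithfully flat over `A''`, then `A` is étale
over `A''`. -/
theorem etale_of_etale_kernel [Module.FaithfullyFlat A'' A] [Algebra.Etale R (A ⧸ J R A A'')] :
    Algebra.Etale A'' A := by
  let f := bialgHom R A A'' hΔ hε
  have hf : ∀ b, algebraMap A'' A b = f b := fun b => rfl
  have hbij := Groth.Agent.H9.FF.thetaFwd_bijective f hf
  let θ : A ⊗[A''] A ≃ₐ[A] A ⊗[R] (A ⧸ J R A A'') :=
    AlgEquiv.ofBijective (Groth.Agent.H9.FF.thetaFwd f hf) hbij
  haveI : Algebra.Etale A (A ⊗[R] (A ⧸ J R A A'')) := inferInstance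
  haveI : Algebra.Etale A (A ⊗[A''] A) := Algebra.Etale.of_equiv θ.symm
  exact Algebra.Etale.of_etale_tensorProduct_of_faithfullyFlat A

/-- If `A''` and the kernel `A/J` are local (and `A` is finite over `A''`), then `A` is local. -/
theorem isLocalRing_of_isLocalRing_kernel [Nontrivial R] [Module.Finite R A] [IsLocalRing A'']
    [IsLocalRing (A ⧸ J R A A'')] : IsLocalRing A := by
  haveI : Module.Finite A'' A := Module.Finite.of_restrictScalars_finite R A'' A
  haveI : Algebra.IsIntegral A'' A := inferInstance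
  haveI : Nontrivial A := by
    by_contra h
    rw [not_nontrivial_iff_subsingleton] at h
    haveI : Subsingleton (A ⧸ J R A A'') := (Ideal.Quotient.mk_surjective).subsingleton
    exact not_subsingleton (A ⧸ J R A A'') ‹_›
  have hI : RingHom.ker (Bialgebra.counitAlgHom R A'') ≤ IsLocalRing.maximalIdeal A'' := by
    apply IsLocalRing.le_maximalIdeal
    intro h
    have h1 : (1 : A'') ∈ RingHom.ker (Bialgebra.counitAlgHom R A'') := by rw [h]; trivial
    rw [RingHom.mem_ker, map_one] at h1
    exact one_ne_zero h1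
  have hJM : ∀ M : Ideal A, M.IsMaximal → J R A A'' ≤ M := by
    intro M hM
    have h1 : M.comap (algebraMap A'' A) = IsLocalRing.maximalIdeal A'' :=
      IsLocalRing.eq_maximalIdeal (Ideal.isMaximal_comap_of_isIntegral_of_isMaximal M)
    rw [J, Ideal.map_le_iff_le_comap, h1]
    exact hI
  obtain ⟨M₀, hM₀⟩ := Ideal.exists_maximal A
  refine IsLocalRing.of_unique_max_ideal ⟨M₀, hM₀, fun M hM => ?_⟩
  have key : ∀ M : Ideal A, M.IsMaximal →
      M = (IsLocalRing.maximalIdeal (A ⧸ J R A A'')).comap (Ideal.Quotient.mk (J R A A'')) := by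
    intro M hM
    haveI := hM
    have h1 : (M.map (Ideal.Quotient.mk (J R A A''))).IsMaximal :=
      Ideal.IsMaximal.map_of_surjective_of_ker_le Ideal.Quotient.mk_surjective
        (by rw [Ideal.mk_ker]; exact hJM M hM)
    have h2 := IsLocalRing.eq_maximalIdeal h1
    rw [← h2, Ideal.comap_map_of_surjective _ Ideal.Quotient.mk_surjective]
    have h3 : Ideal.comap (Ideal.Quotient.mk (J R A A'')) ⊥ = J R A A'' := by
      rw [← RingHom.ker_eq_comap_bot, Ideal.mk_ker]
    rw [h3, sup_eq_left.mpr (hJM M hM)]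
  rw [key M hM, ← key M₀ hM₀]

end Groth.Agent.H8.HopfExact
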