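import Mathlib
import Groth.Agent.Lib.Helper9.FF.Conv
import Groth.Prelude.Def_SGA3

universe u
open TensorProduct IsLocalRing Groth.Agent.H9.FF.Conv

namespace Groth.Agent.H8.HopfNormal

section Conv3

variable {k : Type u} [CommRing k] {A : Type u} [CommRing A] [HopfAlgebra k A]
  {C : Type u} [CommRing C] [Algebra k C]

theorem conv3_eq (f g h : A →ₐ[k] C) : Dyn.conv3 k A f g h = cmul (cmul f g) h := by
  unfold Dyn.conv3 cmul
  simp only [AlgHom.convMul_def, WithConv.ofConv_toConv]
  have : Algebra.TensorProduct.map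
      ((Algebra.TensorProduct.lmul' (S := C) k).comp ((Algebra.TensorProduct.map f g).comp
        (Bialgebra.comulAlgHom k A))) h =
      (Algebra.TensorProduct.map ((Algebra.TensorProduct.lmul' (S := C) k).comp
        (Algebra.TensorProduct.map f g)) h).comp
        (Algebra.TensorProduct.map (Bialgebra.comulAlgHom k A) (AlgHom.id k A)) := by
    rw [← Algebra.TensorProduct.map_comp, AlgHom.comp_id, AlgHom.comp_assoc]
  rw [this]
  rfl

end Conv3

theorem eq_zero_of_isIdempotentElem_of_mem_jacobson {B : Type*} [CommRing B] {x : B}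
    (hx : IsIdempotentElem x) (hJ : x ∈ Ideal.jacobson (⊥ : Ideal B)) : x = 0 := by
  have h1 : IsUnit (1 - x) := by
    have := (Ideal.mem_jacobson_bot.mp hJ) (-1)
    have h2 : x * -1 + 1 = 1 - x := by ring
    rwa [h2] at this
  have h2 : x * (1 - x) = 0 := by rw [mul_sub, mul_one, hx.eq, sub_self]
  exact (h1.mul_left_eq_zero).mp h2

section Main

variable (R : Type u) [CommRing R] [IsLocalRing R] (A : Type u) [CommRing A] [HopfAlgebra R A]
  [Module.Finite R A] (e : A) (he : IsIdempotentElem e)
  (hε : Bialgebra.counitAlgHom R A e = 1) [IsLocalRing (A ⧸ Ideal.span ({1 - e} : Set A))]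

/-- the unit component -/
local notation "A⁰" => A ⧸ Ideal.span ({1 - e} : Set A)

include hε in
/-- Any field-valued point of the unit component lying over the closed point of `R` is the unit
point. -/
theorem point_eq_cone (K : Type u) [Field K] [Algebra R K]
    (hK : ∀ r ∈ maximalIdeal R, algebraMap R K r = 0)
    (h : A →ₐ[R] K) (hh : h e = 1) : h = cone := by
  -- the induced map on the unit component
  let hbar : A⁰ →ₐ[R] K := Ideal.Quotient.liftₐ _ h (by
    intro a ha
    obtain ⟨c, rfl⟩ := Ideal.mem_span_singleton'.mp ha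
    rw [map_mul, map_sub, map_one, hh, sub_self, mul_zero])
  let εbar : A⁰ →ₐ[R] R := Ideal.Quotient.liftₐ _ (Bialgebra.counitAlgHom R A) (by
    intro a ha
    obtain ⟨c, rfl⟩ := Ideal.mem_span_singleton'.mp ha
    rw [map_mul, map_sub, map_one, hε, sub_self, mul_zero])
  haveI : Module.Finite R A⁰ :=
    Module.Finite.of_surjective ((Ideal.Quotient.mkₐ R _).toLinearMap)
      (Ideal.Quotient.mkₐ_surjective R _)
  haveI : Algebra.IsIntegral R A⁰ := inferInstance
  -- the kernel of `hbar` is the maximal ideal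
  haveI hprime : (RingHom.ker hbar.toRingHom).IsPrime := RingHom.ker_isPrime _
  have hcomap : (RingHom.ker hbar.toRingHom).comap (algebraMap R A⁰) = maximalIdeal R := by
    apply le_antisymm
    · apply IsLocalRing.le_maximalIdeal
      exact (Ideal.comap_isPrime _ _).ne_top
    · intro r hr
      rw [Ideal.mem_comap, RingHom.mem_ker]
      show hbar (algebraMap R A⁰ r) = 0
      rw [AlgHom.commutes]
      exact hK r hr
  have hmax : (RingHom.ker hbar.toRingHom).IsMaximal := by
    apply Ideal.isMaximal_of_isIntegral_of_isMaximal_comap (R := R)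
    rw [hcomap]
    infer_instance
  have hker : RingHom.ker hbar.toRingHom = maximalIdeal A⁰ := IsLocalRing.eq_maximalIdeal hmax
  have hεker : RingHom.ker εbar.toRingHom ≤ maximalIdeal A⁰ := by
    apply IsLocalRing.le_maximalIdeal
    intro h0
    have h1 : (1 : A⁰) ∈ RingHom.ker εbar.toRingHom := by rw [h0]; trivial
    rw [RingHom.mem_ker, map_one] at h1
    exact one_ne_zero h1
  refine AlgHom.ext fun a => ?_
  rw [cone_apply]
  have h1 : Ideal.Quotient.mk _ a - algebraMap R A⁰ (Coalgebra.counit a) ∈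
      RingHom.ker hbar.toRingHom := by
    rw [hker]
    apply hεker
    rw [RingHom.mem_ker, map_sub]
    show εbar (Ideal.Quotient.mk _ a) - εbar (algebraMap R A⁰ _) = 0
    rw [AlgHom.commutes, Algebra.algebraMap_self, RingHom.id_apply]
    show Bialgebra.counitAlgHom R A a - _ = 0
    simp
  rw [RingHom.mem_ker, map_sub, sub_eq_zero] at h1
  have h2 : hbar.toRingHom (Ideal.Quotient.mk _ a) = h a := rfl
  have h3 : hbar.toRingHom (algebraMap R A⁰ (Coalgebra.counit a)) =
      algebraMap R K (Coalgebra.counit a) := hbar.commutes _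
  rw [← h2, h1, h3]

include he hε in
/-- Conjugation preserves the unit component. -/
theorem conj_unitComponent (T : Type u) [CommRing T] [Algebra R T] (g h : A →ₐ[R] T)
    (hh : h e = 1) : cmul (cmul g h) (cinv g) e = 1 := by
  haveI : Module.Finite R A⁰ :=
    Module.Finite.of_surjective ((Ideal.Quotient.mkₐ R _).toLinearMap)
      (Ideal.Quotient.mkₐ_surjective R _)
  haveI : Module.Finite R (A ⊗[R] A⁰) := inferInstance
  haveI : Algebra.IsIntegral R (A ⊗[R] A⁰) := inferInstance
  let π : A →ₐ[R] A⁰ := Ideal.Quotient.mkₐ R _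
  have hπe : π e = 1 := by
    have : π (1 - e) = 0 := by
      show Ideal.Quotient.mk _ (1 - e) = 0
      rw [Ideal.Quotient.eq_zero_iff_mem]
      exact Ideal.subset_span rfl
    rw [map_sub, map_one, sub_eq_zero] at this
    exact this.symm
  let g' : A →ₐ[R] A ⊗[R] A⁰ := Algebra.TensorProduct.includeLeft
  let h' : A →ₐ[R] A ⊗[R] A⁰ := (Algebra.TensorProduct.includeRight).comp π
  let cU : A →ₐ[R] A ⊗[R] A⁰ := cmul (cmul g' h') (cinv g')
  have hE : IsIdempotentElem (cU e) := he.map cU
  have hE1 : cU e = 1 := by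
    have hJ : 1 - cU e ∈ Ideal.jacobson (⊥ : Ideal (A ⊗[R] A⁰)) := by
      rw [Ideal.jacobson, Ideal.mem_sInf]
      rintro M ⟨-, hM⟩
      haveI := hM
      letI : Field ((A ⊗[R] A⁰) ⧸ M) := Ideal.Quotient.field M
      let q : A ⊗[R] A⁰ →ₐ[R] (A ⊗[R] A⁰) ⧸ M := Ideal.Quotient.mkₐ R M
      have hK : ∀ r ∈ maximalIdeal R, algebraMap R ((A ⊗[R] A⁰) ⧸ M) r = 0 := by
        intro r hr
        have h1 : (M.comap (algebraMap R (A ⊗[R] A⁰))) = maximalIdeal R :=
          IsLocalRing.eq_maximalIdeal (Ideal.isMaximal_comap_of_isIntegral_of_isMaximal M)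
        rw [← h1, Ideal.mem_comap] at hr
        rw [IsScalarTower.algebraMap_apply R (A ⊗[R] A⁰) ((A ⊗[R] A⁰) ⧸ M)]
        exact Ideal.Quotient.eq_zero_iff_mem.mpr hr
      have h0 : (q.comp h') e = 1 := by
        show q ((1 : A) ⊗ₜ[R] (π e)) = 1
        rw [hπe]
        exact map_one q
      have hcone := point_eq_cone R A e hε _ hK (q.comp h') h0
      have h2 : q (cU e) = 1 := by
        show (q.comp cU) e = 1
        rw [comp_cmul, comp_cmul, comp_cinv, hcone, cmul_cone, cmul_cinv, cone_apply]
        have : Coalgebra.counit (R := R) e = 1 := hε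
        rw [this, map_one]
      have h3 : q (1 - cU e) = 0 := by rw [map_sub, map_one, h2, sub_self]
      exact Ideal.Quotient.eq_zero_iff_mem.mp h3
    have := eq_zero_of_isIdempotentElem_of_mem_jacobson hE.one_sub hJ
    exact (sub_eq_zero.mp this).symm
  -- the general case
  let hbar : A⁰ →ₐ[R] T := Ideal.Quotient.liftₐ _ h (by
    intro a ha
    obtain ⟨c, rfl⟩ := Ideal.mem_span_singleton'.mp ha
    rw [map_mul, map_sub, map_one, hh, sub_self, mul_zero])
  let F : A ⊗[R] A⁰ →ₐ[R] T := Algebra.TensorProduct.lift g hbar (fun _ _ => Commute.all _ _)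
  have hFg : F.comp g' = g :=
    Algebra.TensorProduct.lift_comp_includeLeft _ _ (fun _ _ => Commute.all _ _)
  have hFh : F.comp h' = h := by
    have : F.comp (Algebra.TensorProduct.includeRight) = hbar :=
      Algebra.TensorProduct.lift_comp_includeRight _ _ (fun _ _ => Commute.all _ _)
    show F.comp ((Algebra.TensorProduct.includeRight).comp π) = h
    rw [← AlgHom.comp_assoc, this]
    exact AlgHom.ext fun a => rfl
  have hFc : F.comp cU = cmul (cmul g h) (cinv g) := by
    show F.comp (cmul (cmul g' h') (cinv g')) = _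
    rw [comp_cmul, comp_cmul, comp_cinv, hFg, hFh]
  rw [← hFc]
  show F (cU e) = 1
  rw [hE1, map_one]

include he hε in
theorem isNormalHopfIdeal : SGA3.IsNormalHopfIdeal R A (Ideal.span ({1 - e} : Set A)) := by
  intro T _ _ g h hh a ha
  rw [conv3_eq]
  have hhe : h e = 1 := by
    have := hh (1 - e) (Ideal.subset_span rfl)
    rw [map_sub, map_one, sub_eq_zero] at this
    exact this.symm
  have h1 := conj_unitComponent R A e he hε T g h hhe
  obtain ⟨c, rfl⟩ := Ideal.mem_span_singleton'.mp ha
  have h2 : g.comp (HopfAlgebra.antipodeAlgHom R A) = cinv g := rfl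
  rw [h2, map_mul, map_sub, map_one, h1, sub_self, mul_zero]

end Main

end Groth.Agent.H8.HopfNormal
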