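import Mathlib
import Groth.Agent.Lib.Helper8.Hopf.ExactSeq
import Groth.Agent.Lib.Helper8.Hens.EtaleLift

universe u
open TensorProduct IsLocalRing

namespace Groth.Agent.H8.HopfExact

/-- A local ring, finite and formally unramified over a local ring, with surjective residue field
map, is a quotient of the base. -/
theorem surjective_algebraMap_of_unramified_of_residue (R : Type*) [CommRing R]
    [IsLocalRing R] (A : Type*) [CommRing A] [IsLocalRing A]
    [Algebra R A] [Module.Finite R A] [Algebra.FormallyUnramified R A]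
    (hres : ∀ a : A, ∃ r : R, a - algebraMap R A r ∈ maximalIdeal A) :
    Function.Surjective (algebraMap R A) := by
  have hjac : (maximalIdeal R).map (algebraMap R A) ≤ maximalIdeal A := by
    have := Groth.Agent.H8.Hens.map_maximalIdeal_le_jacobson_bot (A := R) A
    rwa [IsLocalRing.jacobson_eq_maximalIdeal ⊥ bot_ne_top] at this
  haveI : IsLocalHom (algebraMap R A) :=
    ((IsLocalRing.local_hom_TFAE (algebraMap R A)).out 0 2 rfl rfl).mpr hjac
  have hmap := Algebra.FormallyUnramified.map_maximalIdeal (R := R) (S := A)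
  have hN : (⊤ : Submodule R A) ≤ LinearMap.range (Algebra.linearMap R A) := by
    apply Submodule.le_of_le_smul_of_le_jacobson_bot Module.Finite.fg_top
      (IsLocalRing.jacobson_eq_maximalIdeal ⊥ bot_ne_top).ge
    rintro a -
    obtain ⟨r, hr⟩ := hres a
    rw [← hmap] at hr
    have : a = algebraMap R A r + (a - algebraMap R A r) := by ring
    rw [this]
    refine Submodule.add_mem_sup ⟨r, rfl⟩ ?_
    rw [Ideal.smul_top_eq_map]
    exact hr
  intro a
  exact hN (Submodule.mem_top (x := a))

variable (R : Type u) [CommRing R] (A A'' : Type u) [CommRing A] [HopfAlgebra R A]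
  [CommRing A''] [HopfAlgebra R A''] [Algebra A'' A] [IsScalarTower R A'' A]
  (hΔ : (Bialgebra.comulAlgHom R A).comp (IsScalarTower.toAlgHom R A'' A) =
    (Algebra.TensorProduct.map (IsScalarTower.toAlgHom R A'' A) (IsScalarTower.toAlgHom R A'' A)).comp
      (Bialgebra.comulAlgHom R A''))
  (hε : (Bialgebra.counitAlgHom R A).comp (IsScalarTower.toAlgHom R A'' A) =
    Bialgebra.counitAlgHom R A'')

include hΔ hε in
/-- If `G''` is connected and the kernel is étale, the unit component of `G` maps isomorphically
onto `G''`. -/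
theorem bijective_unitComponent [Nontrivial R] [Module.Finite R A] [Module.FaithfullyFlat A'' A]
    [IsLocalRing A''] [Algebra.Etale R (A ⧸ J R A A'')]
    (e : A) (he : IsIdempotentElem e) (heε : Bialgebra.counitAlgHom R A e = 1)
    [IsLocalRing (A ⧸ Ideal.span ({1 - e} : Set A))] :
    Function.Bijective (algebraMap A'' (A ⧸ Ideal.span ({1 - e} : Set A))) := by
  haveI : Algebra.Etale A'' A := etale_of_etale_kernel R A A'' hΔ hε
  haveI : IsLocalization.Away e (A ⧸ Ideal.span ({1 - e} : Set A)) :=
    IsLocalization.Away.quotient_of_isIdempotentElem he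
  haveI : Algebra.Etale A (A ⧸ Ideal.span ({1 - e} : Set A)) :=
    Algebra.Etale.of_isLocalizationAway e
  haveI : Algebra.Etale A'' (A ⧸ Ideal.span ({1 - e} : Set A)) := Algebra.Etale.comp A'' A _
  haveI : Module.Finite A'' A := Module.Finite.of_restrictScalars_finite R A'' A
  haveI : Module.Finite A (A ⧸ Ideal.span ({1 - e} : Set A)) :=
    Module.Finite.of_surjective (Algebra.linearMap A _) Ideal.Quotient.mk_surjective
  haveI : Module.Finite A'' (A ⧸ Ideal.span ({1 - e} : Set A)) := Module.Finite.trans A _
  -- the counit on the unit component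
  let εbar : (A ⧸ Ideal.span ({1 - e} : Set A)) →ₐ[R] R :=
    Ideal.Quotient.liftₐ _ (Bialgebra.counitAlgHom R A) (by
      intro a ha
      obtain ⟨c, rfl⟩ := Ideal.mem_span_singleton'.mp ha
      rw [map_mul, map_sub, map_one, heε, sub_self, mul_zero])
  have hker : RingHom.ker εbar.toRingHom ≤ maximalIdeal (A ⧸ Ideal.span ({1 - e} : Set A)) := by
    apply IsLocalRing.le_maximalIdeal
    intro h
    have h1 : (1 : A ⧸ Ideal.span ({1 - e} : Set A)) ∈ RingHom.ker εbar.toRingHom := by
      rw [h]; trivial
    rw [RingHom.mem_ker, map_one] at h1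
    exact one_ne_zero h1
  have hres : ∀ a : A ⧸ Ideal.span ({1 - e} : Set A), ∃ b : A'',
      a - algebraMap A'' _ b ∈ maximalIdeal (A ⧸ Ideal.span ({1 - e} : Set A)) := by
    intro a
    refine ⟨algebraMap R A'' (εbar a), hker ?_⟩
    rw [RingHom.mem_ker, map_sub, ← IsScalarTower.algebraMap_apply R A'' _]
    show εbar a - εbar (algebraMap R _ (εbar a)) = 0
    rw [AlgHom.commutes, Algebra.algebraMap_self, RingHom.id_apply, sub_self]
  have hsurj := surjective_algebraMap_of_unramified_of_residue A''
    (A ⧸ Ideal.span ({1 - e} : Set A)) hres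
  haveI : IsLocalHom (algebraMap A'' (A ⧸ Ideal.span ({1 - e} : Set A))) :=
    hsurj.isLocalHom _
  haveI : Module.Flat A'' (A ⧸ Ideal.span ({1 - e} : Set A)) := inferInstance
  haveI : Module.FaithfullyFlat A'' (A ⧸ Ideal.span ({1 - e} : Set A)) :=
    Module.FaithfullyFlat.of_flat_of_isLocalHom
  exact ⟨FaithfulSMul.algebraMap_injective _ _, hsurj⟩

end Groth.Agent.H8.HopfExact
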